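import Groth.Agent.EtDual.K583.Strict
import Groth.Agent.EtDual.K375.TowerInf
import Groth.Agent.EtDual.K148.Perf

/-!
# The rings `Q = colim W(k)[[X^(1/p^m)]]` and `S = Q/p = k[[X]]^perf`

`Q` has no `p`-torsion, `S = Q/p` is perfect, and `k[[X]] → S` is radicial.
-/

set_option autoImplicit false
set_option linter.unusedSectionVars false
universe u

open WittVector MvPowerSeries Groth.Agent.EtDual.K375.Tower

namespace K583.QInf

section

variable (p : ℕ) [hp : Fact p.Prime] (k : Type u) [Field k] [CharP k p] (d : ℕ)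

instance directedSystem : DirectedSystem (fun _ : ℕ => A p k d)
    fun i j _ => (ex p k d (j - i) : A p k d → A p k d) where
  map_self i a := by rw [Nat.sub_self, ex_zero]
  map_map i j l h h' a := by rw [ex_ex]; congr 2; omega

/-- `Q = colim W(k)[[X^(1/p^m)]]`. -/
abbrev Q : Type u := Ring.DirectLimit (fun _ : ℕ => A p k d) fun i j _ => ex p k d (j - i)

/-- The map from the `m`-th stage. -/
noncomputable def inQ (m : ℕ) : A p k d →+* Q p k d :=
  Ring.DirectLimit.of (fun _ : ℕ => A p k d) (fun i j _ => ex p k d (j - i)) m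

variable {p k d}

theorem inQ_ex {m n : ℕ} (h : m ≤ n) (a : A p k d) : inQ p k d n (ex p k d (n - m) a) = inQ p k d m a :=
  Ring.DirectLimit.of_f (G := fun _ : ℕ => A p k d) (f := fun i j _ => ex p k d (j - i)) h a

theorem inQ_ex_one (m : ℕ) (a : A p k d) : inQ p k d (m + 1) (ex p k d 1 a) = inQ p k d m a := by
  have := inQ_ex (Nat.le_succ m) a
  rwa [show m.succ - m = 1 by omega] at this

theorem exists_inQ (z : Q p k d) : ∃ m a, inQ p k d m a = z := Ring.DirectLimit.exists_of z

theorem exists_inQ_ge (N : ℕ) (z : Q p k d) : ∃ m a, N ≤ m ∧ inQ p k d m a = z := by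
  obtain ⟨m, a, rfl⟩ := exists_inQ z
  exact ⟨m + N, ex p k d (m + N - m) a, Nat.le_add_left _ _, inQ_ex (Nat.le_add_right m N) a⟩

theorem ex_injective (m : ℕ) : Function.Injective (ex p k d m) := by
  intro a b h
  refine MvPowerSeries.ext fun n => ?_
  have := congrArg (MvPowerSeries.coeff (p ^ m • n)) h
  rwa [ex_apply, ex_apply, coeff_expand_smul, coeff_expand_smul] at this

theorem inQ_injective (m : ℕ) : Function.Injective (inQ p k d m) :=
  Ring.DirectLimit.of_injective (G := fun _ : ℕ => A p k d) (fun i j _ => ex p k d (j - i))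
    (fun _ _ _ => ex_injective _) m

end

variable {p : ℕ} [hp : Fact p.Prime] {k : Type u} [Field k] [CharP k p] [PerfectRing k p] {d : ℕ}

variable (p k d) in
/-- Reduction modulo `p` on `W(k)[[X]]`. -/
noncomputable def redA : A p k d →+* MvPowerSeries (Fin d) k := MvPowerSeries.map WittVector.constantCoeff

theorem coeff_redA (n : Fin d →₀ ℕ) (a : A p k d) : coeff n (redA p k d a) = (coeff n a).coeff 0 := by
  rw [redA, coeff_map]; rfl

theorem redA_X (i : Fin d) : redA p k d (X i) = X i := by rw [redA, map_X]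

theorem redA_surjective : Function.Surjective (redA p k d) := by
  intro b
  refine ⟨fun n => teichmuller p (coeff n b), ?_⟩
  ext n
  rw [coeff_redA]
  exact teichmuller_coeff_zero p _

theorem redA_eq_zero_iff (a : A p k d) : redA p k d a = 0 ↔ (p : A p k d) ∣ a := by
  constructor
  · intro h
    have h1 : ∀ n, (p : WittVector p k) ∣ coeff n a := fun n => by
      rw [K148.Prim.p_dvd_iff, ← coeff_redA, h, map_zero]
    choose c hc using h1
    refine ⟨fun n => c n, ?_⟩
    ext n
    rw [hc n, ← map_natCast (C : WittVector p k →+* A p k d), coeff_C_mul]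
    rfl
  · rintro ⟨c, rfl⟩
    rw [map_mul, map_natCast, ← map_natCast (C : k →+* MvPowerSeries (Fin d) k), CharP.cast_eq_zero,
      map_zero, zero_mul]

theorem redA_ex (m : ℕ) (a : A p k d) :
    redA p k d (ex p k d m a) = expand (p ^ m) (pow_ne p m) (redA p k d a) := by
  rw [redA, ex_apply, map_expand]

theorem redA_ex_eq_zero_iff (m : ℕ) (a : A p k d) : redA p k d (ex p k d m a) = 0 ↔ redA p k d a = 0 := by
  constructor
  · intro h
    ext n
    have := congrArg (MvPowerSeries.coeff (p ^ m • n)) h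
    rwa [redA_ex, coeff_expand_smul, map_zero] at this
  · intro h; rw [redA_ex, h, map_zero]

theorem A_torsion (a : A p k d) (h : (p : A p k d) * a = 0) : a = 0 := by
  refine MvPowerSeries.ext fun n => ?_
  have := congrArg (MvPowerSeries.coeff n) h
  rw [← map_natCast (C : WittVector p k →+* A p k d), coeff_C_mul, map_zero] at this
  rw [map_zero]
  exact eq_zero_of_p_mul_eq_zero _ (by rw [mul_comm, this])

/-- `Q` has no `p`-torsion. -/
theorem Q_torsion (z : Q p k d) (h : (p : Q p k d) * z = 0) : z = 0 := by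
  obtain ⟨m, a, rfl⟩ := exists_inQ z
  rw [← map_natCast (inQ p k d m), ← map_mul] at h
  rw [A_torsion a (inQ_injective m (by rw [h, map_zero])), map_zero]

theorem p_pow_dvd_inQ (r m : ℕ) (a : A p k d) (h : (p : Q p k d) ^ r ∣ inQ p k d m a) :
    ∃ n, m ≤ n ∧ (p : A p k d) ^ r ∣ ex p k d (n - m) a := by
  obtain ⟨z, hz⟩ := h
  obtain ⟨n, c, hn, rfl⟩ := exists_inQ_ge m z
  refine ⟨n, hn, c, inQ_injective n ?_⟩
  rw [inQ_ex hn, hz, map_mul, map_pow, map_natCast]

theorem p_dvd_inQ_iff (m : ℕ) (a : A p k d) : (p : Q p k d) ∣ inQ p k d m a ↔ redA p k d a = 0 := by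
  constructor
  · intro h
    obtain ⟨n, -, h1⟩ := p_pow_dvd_inQ 1 m a (by rwa [pow_one])
    rw [pow_one, ← redA_eq_zero_iff, redA_ex_eq_zero_iff] at h1
    exact h1
  · intro h
    obtain ⟨c, rfl⟩ := (redA_eq_zero_iff a).1 h
    rw [map_mul, map_natCast]
    exact dvd_mul_right _ _

variable (p k d) in
/-- `S = Q/p = k[[X]]^perf`. -/
abbrev S : Type u := Strict.Red p (Q p k d)

theorem S_mk_eq_zero_iff (z : Q p k d) : (Strict.red z : S p k d) = 0 ↔ (p : Q p k d) ∣ z := by
  rw [Ideal.Quotient.eq_zero_iff_mem, Ideal.mem_span_singleton]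

theorem S_inQ_eq_zero_iff (m : ℕ) (a : A p k d) :
    (Strict.red (inQ p k d m a) : S p k d) = 0 ↔ redA p k d a = 0 := by
  rw [S_mk_eq_zero_iff, p_dvd_inQ_iff]

instance nontrivial_S : Nontrivial (S p k d) := by
  refine ⟨⟨1, 0, fun h => ?_⟩⟩
  have h1 : (Strict.red (inQ p k d 0 1) : S p k d) = 0 := by rw [map_one, map_one, h]
  rw [S_inQ_eq_zero_iff, map_one] at h1
  exact one_ne_zero h1

theorem cast_S : ((p : ℕ) : S p k d) = 0 := by
  rw [← map_natCast (Strict.red : Q p k d →+* S p k d), S_mk_eq_zero_iff]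

instance charP_S : CharP (S p k d) p := (CharP.charP_iff_prime_eq_zero hp.out).2 cast_S

theorem exists_stage (s : S p k d) : ∃ m a, (Strict.red (inQ p k d m a) : S p k d) = s := by
  obtain ⟨z, rfl⟩ := Ideal.Quotient.mk_surjective s
  obtain ⟨m, a, rfl⟩ := exists_inQ z
  exact ⟨m, a, rfl⟩

theorem red_eq_of_redA_eq {m : ℕ} {a b : A p k d} (h : redA p k d a = redA p k d b) :
    (Strict.red (inQ p k d m a) : S p k d) = Strict.red (inQ p k d m b) := by
  rw [← sub_eq_zero, ← map_sub, ← map_sub, S_inQ_eq_zero_iff, map_sub, h, sub_self]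

theorem redA_ex_one (a b : A p k d)
    (hb : redA p k d b = MvPowerSeries.map ((_root_.frobeniusEquiv k p).symm : k →+* k) (redA p k d a)) :
    redA p k d (b ^ p) = redA p k d (ex p k d 1 a) := by
  have h1 : MvPowerSeries.map (_root_.frobenius k p) (redA p k d b) = redA p k d a := by
    rw [hb]
    ext n
    rw [coeff_map, coeff_map]
    exact (_root_.frobeniusEquiv k p).apply_symm_apply _
  rw [map_pow, ← map_frobenius_expand (p := p) (hp := hp.out.ne_zero), map_expand, h1, redA_ex]
  congr 1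
  congr 1
  simp

instance perfectRing_S : PerfectRing (S p k d) p := by
  refine ⟨?_, ?_⟩
  · change Function.Injective (_root_.frobenius (S p k d) p)
    rw [injective_iff_map_eq_zero]
    intro s hs
    obtain ⟨m, a, rfl⟩ := exists_stage s
    rw [frobenius_def, ← map_pow, ← map_pow, S_inQ_eq_zero_iff, map_pow] at hs
    rw [S_inQ_eq_zero_iff]
    exact pow_eq_zero_iff (hp.out.ne_zero) |>.1 hs
  · intro s
    obtain ⟨m, a, rfl⟩ := exists_stage s
    obtain ⟨b, hb⟩ := redA_surjective (MvPowerSeries.map ((_root_.frobeniusEquiv k p).symm : k →+* k) (redA p k d a))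
    refine ⟨Strict.red (inQ p k d (m + 1) b), ?_⟩
    change (Strict.red (inQ p k d (m + 1) b) : S p k d) ^ p = _
    rw [← map_pow, ← map_pow, ← inQ_ex_one m a]
    exact red_eq_of_redA_eq (redA_ex_one a b hb)

end K583.QInf
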