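import Groth.Agent.EtDual.K583.QInf
import Groth.Agent.EtDual.K148.Wide

/-!
# The comparison `R_∞ → W(S)/(p - f([x]))`, `S = k[[X]]^perf`

`Φ : Rinf f → W(S)/ξ`, `ξ = p - ρ(f)`, sends `X_i^(1/p^m)` to the Teichmüller representative of
`X_i^(1/p^m)` and is an isomorphism modulo every power of `p`.
-/

set_option autoImplicit false
set_option linter.unusedSectionVars false
universe u

open WittVector MvPowerSeries Groth.Agent.EtDual.K375.Tower

namespace K583.RInfW

open K583.QInf

variable {p : ℕ} [hp : Fact p.Prime] {k : Type u} [Field k] [CharP k p] [PerfectRing k p] {d : ℕ}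

variable (p k d) in
/-- The map `k[[X^(1/p^m)]] → S`. -/
noncomputable def phi (m : ℕ) : MvPowerSeries (Fin d) k →+* S p k d :=
  RingHom.liftOfSurjective (redA p k d) redA_surjective
    ⟨(Strict.red : Q p k d →+* S p k d).comp (inQ p k d m), fun a ha => by
      rw [RingHom.mem_ker] at ha ⊢
      exact (S_inQ_eq_zero_iff m a).2 ha⟩

theorem phi_redA (m : ℕ) (a : A p k d) : phi p k d m (redA p k d a) = Strict.red (inQ p k d m a) :=
  RingHom.liftOfSurjective_comp_apply _ _ _ _

theorem phi_injective (m : ℕ) : Function.Injective (phi p k d m) := by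
  rw [injective_iff_map_eq_zero]
  intro a h
  obtain ⟨a, rfl⟩ := redA_surjective a
  rwa [phi_redA, S_inQ_eq_zero_iff] at h

theorem phi_expand (m : ℕ) (a : MvPowerSeries (Fin d) k) :
    phi p k d (m + 1) (expand (p ^ 1) (pow_ne p 1) a) = phi p k d m a := by
  obtain ⟨a, rfl⟩ := redA_surjective a
  rw [← redA_ex, phi_redA, phi_redA, inQ_ex_one]

/-- `X_i^(1/p^m)` in `S`. -/
noncomputable def xS (m : ℕ) (i : Fin d) : S p k d := phi p k d m (X i)

theorem xS_eq (m : ℕ) (i : Fin d) : (xS m i : S p k d) = Strict.red (inQ p k d m (X i)) := by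
  rw [xS, ← redA_X (p := p) i, phi_redA]

theorem xS_succ_pow (m : ℕ) (i : Fin d) : (xS (m + 1) i : S p k d) ^ p = xS m i := by
  rw [xS, xS, ← phi_expand m, expand_X, map_pow, pow_one]

theorem phi_zero (m : ℕ) (b : MvPowerSeries (Fin d) k) :
    phi p k d 0 b = phi p k d m (expand (p ^ m) (pow_ne p m) b) := by
  obtain ⟨b, rfl⟩ := redA_surjective b
  rw [← redA_ex, phi_redA, phi_redA]
  have := inQ_ex (Nat.zero_le m) b
  rw [Nat.sub_zero] at this
  rw [this]

/-- `k[[X]] → S` is radicial. -/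
theorem exists_phi_eq_pow (s : S p k d) : ∃ (n : ℕ) (a : MvPowerSeries (Fin d) k), phi p k d 0 a = s ^ p ^ n := by
  obtain ⟨m, a, rfl⟩ := exists_stage s
  refine ⟨m, MvPowerSeries.map (iterateFrobenius k p m) (redA p k d a), ?_⟩
  rw [phi_zero m, ← map_expand, map_iterateFrobenius_expand _ hp.out.ne_zero, map_pow, phi_redA]

/-- The residue map `Q → k`. -/
noncomputable def resQ : Q p k d →+* k :=
  Ring.DirectLimit.lift (fun _ : ℕ => A p k d) (fun i j _ => ex p k d (j - i)) k
    (fun _ => (MvPowerSeries.constantCoeff (σ := Fin d) (R := k)).comp (redA p k d)) fun i j h a => by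
    rw [RingHom.comp_apply, RingHom.comp_apply, redA_ex, constantCoeff_expand]

theorem resQ_inQ (m : ℕ) (a : A p k d) :
    resQ (inQ p k d m a) = MvPowerSeries.constantCoeff (redA p k d a) :=
  Ring.DirectLimit.lift_of k
    (fun _ => (MvPowerSeries.constantCoeff (σ := Fin d) (R := k)).comp (redA p k d)) _ m a

/-- The residue map `S → k`. -/
noncomputable def resS : S p k d →+* k :=
  Ideal.Quotient.lift _ resQ fun a ha => by
    obtain ⟨b, rfl⟩ := Ideal.mem_span_singleton.1 ha
    rw [map_mul, map_natCast, CharP.cast_eq_zero, zero_mul]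

theorem resS_phi (m : ℕ) (a : MvPowerSeries (Fin d) k) : resS (phi p k d m a) = constantCoeff a := by
  obtain ⟨a, rfl⟩ := redA_surjective a
  rw [phi_redA]
  exact resQ_inQ m a

theorem resS_xS (m : ℕ) (i : Fin d) : resS (xS m i : S p k d) = 0 := by rw [xS, resS_phi, constantCoeff_X]

theorem isUnit_of_resS {s : S p k d} (h : resS s ≠ 0) : IsUnit s := by
  obtain ⟨n, a, ha⟩ := exists_phi_eq_pow s
  have h1 : constantCoeff a ≠ 0 := by
    rw [← resS_phi 0 a, ha, map_pow]
    exact pow_ne_zero _ h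
  have h2 : IsUnit a := MvPowerSeries.isUnit_iff_constantCoeff.2 (isUnit_iff_ne_zero.2 h1)
  have h3 : IsUnit (s ^ p ^ n) := ha ▸ h2.map (phi p k d 0)
  exact (isUnit_pow_iff (pow_ne p n)).1 h3

/-! ### The map `W(k)[[X^(1/p^m)]] → W(S)` -/

variable (p k d) in
/-- The map `Q → W(S)`. -/
noncomputable def rho : Q p k d →+* WittVector p (S p k d) := Strict.rho Q_torsion

variable (p k d) in
/-- The map `W(k)[[X^(1/p^m)]] → W(S)`. -/
noncomputable def rhoM (m : ℕ) : A p k d →+* WittVector p (S p k d) := (rho p k d).comp (inQ p k d m)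

theorem rhoM_ex {m n : ℕ} (h : m ≤ n) (a : A p k d) : rhoM p k d n (ex p k d (n - m) a) = rhoM p k d m a := by
  rw [rhoM, RingHom.comp_apply, inQ_ex h]; rfl

theorem rhoM_ex_zero (m : ℕ) (a : A p k d) : rhoM p k d m (ex p k d m a) = rhoM p k d 0 a := by
  have := rhoM_ex (Nat.zero_le m) a
  rwa [Nat.sub_zero] at this

theorem rhoM_coeff_zero (m : ℕ) (a : A p k d) : (rhoM p k d m a).coeff 0 = phi p k d m (redA p k d a) := by
  rw [rhoM, RingHom.comp_apply, rho, Strict.rho_coeff_zero, phi_redA]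

theorem rhoM_X (m : ℕ) (i : Fin d) : rhoM p k d m (X i) = teichmuller p (xS m i) := by
  rw [xS_eq]
  refine Strict.rho_eq_teichmuller Q_torsion (fun n => inQ p k d (m + n) (X i)) fun n => ?_
  rw [← map_pow, ← add_assoc, ← inQ_ex_one (m + n), ex_X, pow_one]

theorem exists_dvd_sub (r : ℕ) (w : WittVector p (S p k d)) (N : ℕ) :
    ∃ (m : ℕ) (a : A p k d), N ≤ m ∧ (p : WittVector p (S p k d)) ^ r ∣ w - rhoM p k d m a := by
  obtain ⟨x, hx⟩ := Strict.exists_dvd_sub Q_torsion r w
  obtain ⟨m, a, hm, rfl⟩ := exists_inQ_ge N x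
  exact ⟨m, a, hm, hx⟩

theorem dvd_of_dvd_rhoM (r m : ℕ) (a : A p k d) (h : (p : WittVector p (S p k d)) ^ r ∣ rhoM p k d m a) :
    ∃ n, m ≤ n ∧ (p : A p k d) ^ r ∣ ex p k d (n - m) a :=
  p_pow_dvd_inQ r m a (Strict.dvd_of_dvd_rho Q_torsion r _ h)

/-! ### The element `ξ = p - f([x])` -/

variable (f : A p k d)

/-- `ξ = p - f([x])`. -/
noncomputable def xi : WittVector p (S p k d) := (p : WittVector p (S p k d)) - rhoM p k d 0 f

theorem rhoM_eqn (m : ℕ) : rhoM p k d m (eqn f m) = xi f := by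
  rw [eqn, map_sub, map_natCast, rhoM_ex_zero, xi]

theorem xi_coeff_zero : (xi f).coeff 0 = - phi p k d 0 (redA p k d f) := by
  have h : (WittVector.constantCoeff : WittVector p (S p k d) →+* _) (xi f) =
      - phi p k d 0 (redA p k d f) := by
    rw [xi, map_sub, map_natCast, cast_S, zero_sub]
    congr 1
    exact rhoM_coeff_zero 0 f
  exact h

variable {f}

theorem xi_coeff_zero_mem (hf : f ∈ Ideal.span (Set.range (X : Fin d → A p k d))) :
    (xi f).coeff 0 ∈ Ideal.span (Set.range (xS 0 : Fin d → S p k d)) := by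
  rw [xi_coeff_zero, neg_mem_iff]
  have h1 := Ideal.mem_map_of_mem ((phi p k d 0).comp (redA p k d)) hf
  rw [Ideal.map_span, ← Set.range_comp] at h1
  have h2 : ((phi p k d 0).comp (redA p k d)) ∘ (X : Fin d → A p k d) = xS 0 := by
    funext i
    rw [Function.comp_apply, RingHom.comp_apply, redA_X]; rfl
  rw [h2] at h1
  exact h1

theorem map_resS_rhoM (hf : f ∈ Ideal.span (Set.range (X : Fin d → A p k d))) :
    WittVector.map resS (rhoM p k d 0 f) = 0 := by
  have h1 : Ideal.span (Set.range (X : Fin d → A p k d)) ≤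
      RingHom.ker ((WittVector.map (resS : S p k d →+* k)).comp (rhoM p k d 0)) := by
    rw [Ideal.span_le]
    rintro _ ⟨i, rfl⟩
    rw [SetLike.mem_coe, RingHom.mem_ker, RingHom.comp_apply, rhoM_X, map_teichmuller, resS_xS,
      teichmuller_zero]
  exact h1 hf

/-- `ξ` is distinguished. -/
theorem isDist_xi (hf : f ∈ Ideal.span (Set.range (X : Fin d → A p k d))) : K148.Prim.IsDist (xi f) := by
  obtain ⟨η, hη⟩ := K148.Prim.exists_eq_add (xi f)
  refine ⟨η, ?_, hη⟩
  rw [K148.Prim.isUnit_iff]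
  refine isUnit_of_resS ?_
  have h0 : resS ((xi f).coeff 0) = 0 := by
    rw [xi_coeff_zero, map_neg, resS_phi]
    have h1 : Ideal.span (Set.range (X : Fin d → A p k d)) ≤
        RingHom.ker ((constantCoeff (σ := Fin d) (R := k)).comp (redA p k d)) := by
      rw [Ideal.span_le]
      rintro _ ⟨i, rfl⟩
      rw [SetLike.mem_coe, RingHom.mem_ker, RingHom.comp_apply, redA_X, constantCoeff_X]
    have h2 := h1 hf
    rw [RingHom.mem_ker, RingHom.comp_apply] at h2
    rw [h2, neg_zero]
  have h1 := congrArg (WittVector.map (resS : S p k d →+* k)) hη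
  rw [xi, map_sub, map_natCast, map_resS_rhoM hf, sub_zero, map_add, map_teichmuller, ← xi, h0,
    teichmuller_zero, zero_add, map_mul, map_natCast] at h1
  have h2 : WittVector.map (resS : S p k d →+* k) η = 1 := by
    refine K148.Prim.eq_of_p_mul ?_
    rw [← h1, mul_one]
  have h3 : resS (η.coeff 0) = 1 := by
    have := congrArg (fun w => WittVector.coeff w 0) h2
    simpa using this
  rw [h3]
  exact one_ne_zero

/-! ### The comparison map -/

variable (f)

/-- The comparison map at the `m`-th stage. -/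
noncomputable def PhiM (m : ℕ) : Rm f m →+* WittVector p (S p k d) ⧸ Ideal.span {xi f} :=
  Ideal.quotientMap _ (rhoM p k d m) (by
    rw [Ideal.span_singleton_le_iff_mem, Ideal.mem_comap, rhoM_eqn]
    exact Ideal.mem_span_singleton_self _)

theorem PhiM_mk (m : ℕ) (a : A p k d) : PhiM f m (mk f m a) = Ideal.Quotient.mk _ (rhoM p k d m a) :=
  Ideal.quotientMap_mk

/-- The comparison map `R_∞ → W(S)/ξ`. -/
noncomputable def Phi : Rinf f →+* WittVector p (S p k d) ⧸ Ideal.span {xi f} :=
  Ring.DirectLimit.lift _ _ _ (PhiM f) fun i j h a => by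
    obtain ⟨a, rfl⟩ := Ideal.Quotient.mk_surjective a
    rw [trLE_mk, PhiM_mk, rhoM_ex h, PhiM_mk]

theorem Phi_toInf (m : ℕ) (a : A p k d) :
    Phi f (toInf f m (mk f m a)) = Ideal.Quotient.mk _ (rhoM p k d m a) :=
  (Ring.DirectLimit.lift_of ..).trans (PhiM_mk f m a)

theorem Phi_xInf (m : ℕ) (i : Fin d) :
    Phi f (xInf f m i) = Ideal.Quotient.mk _ (teichmuller p (xS m i)) := by
  rw [xInf, x, Phi_toInf, rhoM_X]

/-- The comparison map is an isomorphism modulo every power of `p`. -/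
theorem isoMod_Phi : K148.Wide.IsoMod (p : Rinf f) (Phi f) := by
  intro r
  rw [map_natCast]
  constructor
  · intro z hz
    obtain ⟨m, a, rfl⟩ := exists_toInf f z
    obtain ⟨a, rfl⟩ := Ideal.Quotient.mk_surjective a
    rw [Phi_toInf] at hz
    obtain ⟨y, hy⟩ := hz
    obtain ⟨w, rfl⟩ := Ideal.Quotient.mk_surjective y
    rw [← map_natCast (Ideal.Quotient.mk (Ideal.span {xi f})), ← map_pow, ← map_mul,
      Ideal.Quotient.eq, Ideal.mem_span_singleton] at hy
    obtain ⟨v, hv⟩ := hy
    obtain ⟨n, b, hn, u, hu⟩ := exists_dvd_sub r v m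
    have h1 : (p : WittVector p (S p k d)) ^ r ∣ rhoM p k d n (ex p k d (n - m) a - eqn f n * b) := by
      refine ⟨w + xi f * u, ?_⟩
      rw [map_sub, map_mul, rhoM_ex hn, rhoM_eqn]
      have e1 : v = rhoM p k d n b + (p : WittVector p (S p k d)) ^ r * u := by rw [← hu]; ring
      have e2 : rhoM p k d m a = (p : WittVector p (S p k d)) ^ r * w + xi f * v := by rw [← hv]; ring
      rw [e2, e1]
      ring
    obtain ⟨l, hl, c, hc⟩ := dvd_of_dvd_rhoM r n _ h1
    refine ⟨toInf f l (mk f l c), ?_⟩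
    have h2 : mk f l (ex p k d (l - n) (ex p k d (n - m) a)) = (p : Rm f l) ^ r * mk f l c := by
      rw [map_sub, map_mul, ex_eqn, Nat.sub_add_cancel hl, sub_eq_iff_eq_add] at hc
      rw [hc, map_add, map_mul, map_mul, map_pow, map_natCast]
      have : mk f l (eqn f l) = 0 := Ideal.Quotient.eq_zero_iff_mem.2 (Ideal.mem_span_singleton_self _)
      rw [this, zero_mul, add_zero]
    have h3 : toInf f m (mk f m a) = toInf f l (mk f l (ex p k d (l - n) (ex p k d (n - m) a))) := by
      rw [← toInf_trLE f (hn.trans hl), trLE_mk, ex_ex, show l - n + (n - m) = l - m by omega]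
    change toInf f m (mk f m a) = _
    rw [h3, h2, map_mul, map_pow, map_natCast]
  · intro y
    obtain ⟨w, rfl⟩ := Ideal.Quotient.mk_surjective y
    obtain ⟨m, a, -, u, hu⟩ := exists_dvd_sub r w 0
    refine ⟨toInf f m (mk f m a), Ideal.Quotient.mk _ u, ?_⟩
    rw [Phi_toInf, ← map_sub, hu, map_mul, map_pow, map_natCast]

end K583.RInfW
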