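import Groth.Agent.EtDual.K148.Prim
import Mathlib.RingTheory.Perfectoid.FontaineTheta

/-!
# A ring `D` without `p`-torsion such that `D/p` is perfect maps to `W(D/p)`, and the map is an
isomorphism modulo every power of `p`

The map is the inverse of `W(D/p) → D/p^(n+1)`, `[b] ↦ y^(p^n)` where `y` lifts `b^(1/p^n)`.
-/

set_option autoImplicit false
set_option linter.unusedSectionVars false
universe u

open WittVector Ideal

namespace K583.Strict

variable {p : ℕ} [hp : Fact p.Prime] {D : Type u} [CommRing D]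

section
variable (p D)
/-- The reduction `D/p`. -/
abbrev Red : Type u := D ⧸ span {(p : D)}
end

/-- The projection `D → D/p`. -/
abbrev red : D →+* Red p D := Ideal.Quotient.mk _

variable [CharP (Red p D) p] [PerfectRing (Red p D) p]

/-- The map `W(D/p) → D/p^(n+1)`. -/
noncomputable def th (n : ℕ) : WittVector p (Red p D) →+* D ⧸ (span {(p : D)}) ^ (n + 1) :=
  (ghostComponentModPPow n).comp
    (WittVector.map (iterateFrobeniusEquiv (Red p D) p n).symm.toRingHom)

theorem th_teichmuller (n : ℕ) (b : Red p D) (y : D) (hy : (red y : Red p D) ^ p ^ n = b) :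
    th n (teichmuller p b) = Ideal.Quotient.mk _ (y ^ p ^ n) := by
  have h1 : (iterateFrobeniusEquiv (Red p D) p n).symm.toRingHom b = red y := by
    change (iterateFrobeniusEquiv (Red p D) p n).symm b = red y
    rw [RingEquiv.symm_apply_eq, iterateFrobeniusEquiv_apply, ← hy]
    rfl
  rw [th, RingHom.comp_apply, map_teichmuller, h1]
  have h2 : teichmuller p (red y : Red p D) = WittVector.map (red : D →+* Red p D) (teichmuller p y) := by
    rw [map_teichmuller]
  rw [h2, ghostComponentModPPow_map_mk, ghostComponent_teichmuller]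

theorem exists_root (n : ℕ) (b : Red p D) : ∃ y : D, (red y : Red p D) ^ p ^ n = b := by
  obtain ⟨c, hc⟩ := (iterateFrobeniusEquiv (Red p D) p n).surjective b
  obtain ⟨y, rfl⟩ := Ideal.Quotient.mk_surjective c
  refine ⟨y, ?_⟩
  rw [← hc, iterateFrobeniusEquiv_apply]
  rfl

theorem red_eq_iff (x y : D) : (red x : Red p D) = red y ↔ ∃ z, x = y + p * z := by
  rw [Ideal.Quotient.eq, Ideal.mem_span_singleton]
  constructor
  · rintro ⟨z, hz⟩; exact ⟨z, by rw [← hz]; ring⟩
  · rintro ⟨z, rfl⟩; exact ⟨z, by ring⟩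

theorem mk_eq_zero_iff (n : ℕ) (x : D) :
    (Ideal.Quotient.mk ((span {(p : D)}) ^ n) x) = 0 ↔ (p : D) ^ n ∣ x := by
  rw [Ideal.Quotient.eq_zero_iff_mem, Ideal.span_singleton_pow, Ideal.mem_span_singleton]

theorem coeff_zero (n : ℕ) (w : WittVector p (Red p D)) (y : D)
    (h : th n w = Ideal.Quotient.mk _ y) : w.coeff 0 = red y := by
  obtain ⟨w', hw'⟩ := K148.Prim.exists_eq_add w
  obtain ⟨u, hu⟩ := exists_root n (w.coeff 0)
  obtain ⟨t, ht⟩ := Ideal.Quotient.mk_surjective (th n w')
  rw [hw', map_add, th_teichmuller n _ u hu, map_mul, map_natCast, ← ht] at h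
  have h1 : Ideal.Quotient.mk ((span {(p : D)}) ^ (n + 1)) (u ^ p ^ n + p * t - y) = 0 := by
    rw [map_sub, map_add, map_mul, map_natCast, h, sub_self]
  rw [mk_eq_zero_iff] at h1
  obtain ⟨z, hz⟩ := h1
  rw [← hu, ← map_pow]
  symm
  refine (red_eq_iff _ _).2 ⟨t - p ^ n * z, ?_⟩
  have : y = u ^ p ^ n + p * t - (u ^ p ^ n + p * t - y) := by ring
  rw [this, hz]
  ring

/-- The maps are compatible. -/
theorem th_succ (n : ℕ) (w : WittVector p (Red p D)) (y : D)
    (h : th (n + 1) w = Ideal.Quotient.mk _ y) : th n w = Ideal.Quotient.mk _ y := by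
  have key : (Ideal.Quotient.factorPowSucc _ _).comp (th (n + 1)) = th (p := p) (D := D) n := by
    refine eq_of_apply_teichmuller_eq _ _ ?_ fun b => ?_
    · refine ⟨n + 1, ?_⟩
      have : ((p : D ⧸ (span {(p : D)}) ^ (n + 1))) = Ideal.Quotient.mk _ (p : D) := by
        rw [map_natCast]
      rw [this, ← map_pow, Ideal.Quotient.eq_zero_iff_mem]
      exact Ideal.pow_mem_pow (mem_span_singleton_self _) _
    · obtain ⟨y, hy⟩ := exists_root (n + 1) b
      rw [RingHom.comp_apply, th_teichmuller (n + 1) b y hy, th_teichmuller n b (y ^ p)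
        (by rw [map_pow, ← pow_mul, ← pow_succ', hy])]
      rw [← pow_mul, ← pow_succ']
      rfl
  rw [← key, RingHom.comp_apply, h]
  rfl

theorem th_p_pow (n : ℕ) (w : WittVector p (Red p D)) (h : (p : WittVector p (Red p D)) ^ (n + 1) ∣ w) :
    th n w = 0 := by
  obtain ⟨v, rfl⟩ := h
  rw [map_mul, map_pow, map_natCast]
  have : ((p : D ⧸ (span {(p : D)}) ^ (n + 1))) ^ (n + 1) = 0 := by
    rw [show ((p : D ⧸ (span {(p : D)}) ^ (n + 1))) = Ideal.Quotient.mk _ (p : D) by rw [map_natCast],
      ← map_pow, mk_eq_zero_iff]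
  rw [this, zero_mul]

theorem th_surjective_aux (n : ℕ) (y : D) (j : ℕ) :
    ∃ (w : WittVector p (Red p D)) (z : D), th n w = Ideal.Quotient.mk _ (y - (p : D) ^ j * z) := by
  induction j with
  | zero => exact ⟨0, y, by simp⟩
  | succ j ih =>
    obtain ⟨w, z, h⟩ := ih
    obtain ⟨u, hu⟩ := exists_root n (red z : Red p D)
    rw [← map_pow] at hu
    obtain ⟨t, ht⟩ := (red_eq_iff z (u ^ p ^ n)).1 hu.symm
    refine ⟨w + (p : WittVector p (Red p D)) ^ j * teichmuller p (red z), t, ?_⟩
    rw [map_add, map_mul, map_pow, map_natCast, th_teichmuller n _ u (by rw [← map_pow, hu]), h]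
    rw [show ((p : D ⧸ (span {(p : D)}) ^ (n + 1))) = Ideal.Quotient.mk _ (p : D) by rw [map_natCast]]
    rw [← map_pow, ← map_mul, ← map_add]
    congr 1
    rw [ht]
    ring

theorem th_surjective (n : ℕ) (y : D) :
    ∃ w : WittVector p (Red p D), th n w = Ideal.Quotient.mk _ y := by
  obtain ⟨w, z, h⟩ := th_surjective_aux (p := p) n y (n + 1)
  refine ⟨w, ?_⟩
  rw [h, map_sub, (mk_eq_zero_iff (n + 1) _).2 (dvd_mul_right _ _), sub_zero]

theorem dvd_of_th_eq_zero (hD : ∀ x : D, (p : D) * x = 0 → x = 0) (n : ℕ)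
    (w : WittVector p (Red p D)) (h : th n w = 0) : (p : WittVector p (Red p D)) ^ (n + 1) ∣ w := by
  induction n generalizing w with
  | zero =>
    have h0 := coeff_zero 0 w 0 (by rw [h, map_zero])
    rw [zero_add, pow_one, K148.Prim.p_dvd_iff, h0, map_zero]
  | succ n ih =>
    have h0 := coeff_zero (n + 1) w 0 (by rw [h, map_zero])
    rw [map_zero] at h0
    obtain ⟨w', rfl⟩ := (K148.Prim.p_dvd_iff w).2 h0
    obtain ⟨y, hy⟩ := Ideal.Quotient.mk_surjective (th (n + 1) w')
    rw [map_mul, map_natCast, ← hy,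
      show ((p : D ⧸ (span {(p : D)}) ^ (n + 1 + 1))) = Ideal.Quotient.mk _ (p : D) by rw [map_natCast],
      ← map_mul, mk_eq_zero_iff] at h
    obtain ⟨z, hz⟩ := h
    have h1 : y = (p : D) ^ (n + 1) * z := by
      rw [← sub_eq_zero]
      refine hD _ ?_
      rw [mul_sub, hz]
      ring
    have h2 : th n w' = 0 := by
      rw [th_succ n w' y hy.symm, mk_eq_zero_iff, h1]
      exact dvd_mul_right _ _
    rw [pow_succ']
    exact mul_dvd_mul_left _ (ih w' h2)

/-- Uniqueness of the preimages. -/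
theorem eq_of_th_eq (hD : ∀ x : D, (p : D) * x = 0 → x = 0) (w w' : WittVector p (Red p D))
    (h : ∀ n, th n w = th n w') : w = w' := by
  have : IsHausdorff (span {(p : WittVector p (Red p D))}) (WittVector p (Red p D)) := inferInstance
  rw [← sub_eq_zero]
  refine IsHausdorff.haus this _ fun n => ?_
  rw [SModEq.zero, smul_eq_mul, Ideal.mul_top, Ideal.span_singleton_pow, Ideal.mem_span_singleton]
  have h1 := dvd_of_th_eq_zero hD n (w - w') (by rw [map_sub, h n, sub_self])
  exact (pow_dvd_pow _ (Nat.le_succ n)).trans h1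

theorem exists_th_eq (hD : ∀ x : D, (p : D) * x = 0 → x = 0) (x : D) :
    ∃ w : WittVector p (Red p D), ∀ n, th n w = Ideal.Quotient.mk _ x := by
  choose w hw using fun n => th_surjective (p := p) n x
  have hstep : ∀ n, (p : WittVector p (Red p D)) ^ (n + 1) ∣ w (n + 1) - w n := fun n => by
    refine dvd_of_th_eq_zero hD n _ ?_
    rw [map_sub, hw n, th_succ n (w (n + 1)) x (hw (n + 1)), sub_self]
  have hmono : ∀ m n, m ≤ n → (p : WittVector p (Red p D)) ^ (m + 1) ∣ w n - w m := by
    intro m n hmn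
    induction n, hmn using Nat.le_induction with
    | base => simp
    | succ n hn ih =>
      have : w (n + 1) - w m = (w (n + 1) - w n) + (w n - w m) := by ring
      rw [this]
      exact dvd_add ((pow_dvd_pow _ (by omega)).trans (hstep n)) ih
  have hc : IsPrecomplete (span {(p : WittVector p (Red p D))}) (WittVector p (Red p D)) := inferInstance
  obtain ⟨L, hL⟩ := hc.prec' w fun {m n} hmn => by
    rw [SModEq.comm, SModEq.sub_mem, smul_eq_mul, Ideal.mul_top, Ideal.span_singleton_pow,
      Ideal.mem_span_singleton]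
    exact (pow_dvd_pow _ (Nat.le_succ m)).trans (hmono m n hmn)
  refine ⟨L, fun n => ?_⟩
  have h1 := hL (n + 1)
  rw [SModEq.sub_mem, smul_eq_mul, Ideal.mul_top, Ideal.span_singleton_pow,
      Ideal.mem_span_singleton] at h1
  have h2 : th n (w (n + 1) - L) = 0 := th_p_pow n _ h1
  rw [map_sub, sub_eq_zero] at h2
  rw [← h2, th_succ n _ x (hw (n + 1))]

/-- The ring map `D → W(D/p)`. -/
noncomputable def rho (hD : ∀ x : D, (p : D) * x = 0 → x = 0) : D →+* WittVector p (Red p D) where
  toFun x := (exists_th_eq hD x).choose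
  map_one' := eq_of_th_eq hD _ _ fun n => by rw [(exists_th_eq hD 1).choose_spec n, map_one, map_one]
  map_zero' := eq_of_th_eq hD _ _ fun n => by rw [(exists_th_eq hD 0).choose_spec n, map_zero, map_zero]
  map_mul' x y := eq_of_th_eq hD _ _ fun n => by
    rw [map_mul, (exists_th_eq hD (x * y)).choose_spec n, (exists_th_eq hD x).choose_spec n,
      (exists_th_eq hD y).choose_spec n, map_mul]
  map_add' x y := eq_of_th_eq hD _ _ fun n => by
    rw [map_add, (exists_th_eq hD (x + y)).choose_spec n, (exists_th_eq hD x).choose_spec n,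
      (exists_th_eq hD y).choose_spec n, map_add]

variable (hD : ∀ x : D, (p : D) * x = 0 → x = 0)

theorem th_rho (n : ℕ) (x : D) : th n (rho hD x) = Ideal.Quotient.mk _ x :=
  (exists_th_eq hD x).choose_spec n

/-- `ρ` lifts the identity of `D/p`. -/
theorem rho_coeff_zero (x : D) : (rho hD x).coeff 0 = red x := coeff_zero 0 _ _ (th_rho hD 0 x)

/-- `ρ` is injective modulo the powers of `p`. -/
theorem dvd_of_dvd_rho (r : ℕ) (x : D) (h : (p : WittVector p (Red p D)) ^ r ∣ rho hD x) :
    (p : D) ^ r ∣ x := by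
  cases r with
  | zero => simp
  | succ n => rw [← mk_eq_zero_iff, ← th_rho hD n x, th_p_pow n _ h]

/-- `ρ` is surjective modulo the powers of `p`. -/
theorem exists_dvd_sub (r : ℕ) (w : WittVector p (Red p D)) :
    ∃ x : D, (p : WittVector p (Red p D)) ^ r ∣ w - rho hD x := by
  obtain ⟨x, hx⟩ := Ideal.Quotient.mk_surjective (th r w)
  refine ⟨x, (pow_dvd_pow _ (Nat.le_succ r)).trans (dvd_of_th_eq_zero hD r _ ?_)⟩
  rw [map_sub, th_rho, hx, sub_self]

/-- `ρ` on elements with a compatible system of `p`-power roots. -/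
theorem rho_eq_teichmuller (x : ℕ → D) (hx : ∀ n, x (n + 1) ^ p = x n) :
    rho hD (x 0) = teichmuller p (red (x 0)) := by
  have h1 : ∀ n, x n ^ p ^ n = x 0 := fun n => by
    induction n with
    | zero => simp
    | succ n ih => rw [pow_succ', pow_mul, hx, ih]
  refine eq_of_th_eq hD _ _ fun n => ?_
  rw [th_rho, th_teichmuller n _ (x n) (by rw [← map_pow, h1]), h1]

end K583.Strict
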